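import Groth.Agent.Lib.OrdSurf9.SimpleStalk
import Groth.Agent.Lib.ASBun21.HomFinite
import Mathlib.FieldTheory.IsAlgClosed.Basic

/-!
# Endomorphisms of a torsion-free module with simple generic stalk are scalars
-/

set_option autoImplicit false
set_option backward.isDefEq.respectTransparency false
set_option linter.style.haveILetI false

universe u

open CategoryTheory CategoryTheory.Limits AlgebraicGeometry TopologicalSpace Opposite Polynomial

noncomputable section

namespace GrothLib.OrdSurf9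

variable (k : Type u) [Field k] {X : Scheme.{u}} [X.Over (Spec (CommRingCat.of k))] [IsIntegral X]
  {A : Sheaf (Opens.grothendieckTopology X) RingCat.{u}} (φ : X.ringCatSheaf ⟶ A)

/-- A scalar, as a section over `U`. -/
def res (U : X.Opens) : k →+* Γ(X, U) :=
  (X.presheaf.map (homOfLE (le_top : U ≤ ⊤)).op).hom.comp (Coh.toGlobal (X ↘ Spec (CommRingCat.of k)))

/-- A scalar in the generic stalk of the sheaf of rings. -/
def γ : k →+* Aη A :=
  ((TopCat.Presheaf.germ (C := RingCat.{u}) (X := X.carrier) A.obj ⊤ (genericPoint X) trivial).hom.comp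
    (φ.hom.app (op ⊤)).hom).comp (Coh.toGlobal (X ↘ Spec (CommRingCat.of k)))

theorem γ_eq {U : X.Opens} (hU : genericPoint X ∈ U) (c : k) :
    γ k φ c = gA hU (φ.hom.app (op U) (res k U c)) := by
  have h := ConcreteCategory.congr_hom (φ.hom.naturality (homOfLE (le_top : U ≤ ⊤)).op)
    (Coh.toGlobal (X ↘ Spec (CommRingCat.of k)) c)
  exact ((congrArg (gA hU) h).trans (gA_res le_top hU _)).symm

variable (hcen : ∀ (U : (Opens X)ᵒᵖ) (s : X.ringCatSheaf.obj.obj U) (a : A.obj.obj U),
      φ.hom.app U s * a = a * φ.hom.app U s)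

include hcen in
theorem γ_comm (c : k) (a : Aη A) : γ k φ c * a = a * γ k φ c := by
  obtain ⟨U, hU, a, rfl⟩ := exists_gA a
  rw [γ_eq k φ hU, ← gA_mul, ← gA_mul]
  exact congrArg (gA hU) (hcen _ _ _)

variable (M : SheafOfModules.{u} A)

/-- A scalar as an endomorphism of the generic stalk. -/
def ρ : k →+* Module.End (Aη A) (Mη A M) where
  toFun c :=
    { toFun := fun x => γ k φ c • x
      map_add' := smul_add _
      map_smul' := fun a x => by rw [RingHom.id_apply, smul_smul, smul_smul, γ_comm k φ hcen] }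
  map_one' := LinearMap.ext fun x => show γ k φ 1 • x = x by rw [map_one, one_smul]
  map_mul' a b := LinearMap.ext fun x => show γ k φ (a * b) • x = γ k φ a • (γ k φ b • x) by rw [map_mul, mul_smul]
  map_zero' := LinearMap.ext fun x => show γ k φ 0 • x = 0 by rw [map_zero, zero_smul]
  map_add' a b := LinearMap.ext fun x => show γ k φ (a + b) • x = γ k φ a • x + γ k φ b • x by rw [map_add, add_smul]

/-- The generic stalk of an `O_X`-linear endomorphism. -/
def T (f : und A φ M ⟶ und A φ M) : Mη A M →+ Mη A M :=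
  ((TopCat.Presheaf.stalkFunctor (X := X.toTopCat) Ab.{u} (genericPoint X)).map f.mapPresheaf).hom

theorem T_gM (f : und A φ M ⟶ und A φ M) {U : X.Opens} (hU : genericPoint X ∈ U) (m : M.val.obj (op U)) :
    T φ M f (gM M hU m) = gM M hU (f.app U m) :=
  TopCat.Presheaf.stalkFunctor_map_germ_apply (X := X.toTopCat) U (genericPoint X) hU f.mapPresheaf m

theorem T_id (x : Mη A M) : T φ M (𝟙 _) x = x := by
  obtain ⟨U, hU, m, rfl⟩ := exists_gM M x
  exact T_gM φ M (𝟙 _) hU m

theorem T_comp (f g : und A φ M ⟶ und A φ M) (x : Mη A M) : T φ M (f ≫ g) x = T φ M g (T φ M f x) := by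
  obtain ⟨U, hU, m, rfl⟩ := exists_gM M x
  rw [T_gM φ M f hU, T_gM φ M g hU]
  exact T_gM φ M (f ≫ g) hU m

theorem T_add (f g : und A φ M ⟶ und A φ M) (x : Mη A M) : T φ M (f + g) x = T φ M f x + T φ M g x := by
  obtain ⟨U, hU, m, rfl⟩ := exists_gM M x
  rw [T_gM φ M f hU, T_gM φ M g hU, T_gM φ M (f + g) hU]
  exact map_add (TopCat.Presheaf.germ (C := Ab.{u}) (X := X.carrier) M.val.presheaf U (genericPoint X) hU).hom _ _

theorem T_smul (c : k) (f : und A φ M ⟶ und A φ M) (x : Mη A M) : T φ M (c • f) x = γ k φ c • T φ M f x := by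
  obtain ⟨U, hU, m, rfl⟩ := exists_gM M x
  rw [T_gM φ M f hU, T_gM φ M (c • f) hU, γ_eq k φ hU, ← gM_smul]
  exact congrArg (gM M hU) (KLin.smul_app_apply c f U m)

include hcen in
/-- Endomorphisms are scalars. -/
theorem exists_eq_smul [IsAlgClosed k] [IsProper (X ↘ Spec (CommRingCat.of k))]
    (hMc : Coh.IsCoh (X := X) (und A φ M)) (hMt : TorSh.IsTorsionFree (X := X) (und A φ M))
    [IsSimpleModule (Aη A) (Mη A M)] (ψ : M ⟶ M) :
    ∃ c : k, ∀ (U : X.Opens) (m : M.val.obj (op U)),
      (ψ.val.app (op U)).hom m = φ.hom.app (op U) (res k U c) • m := by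
  classical
  haveI := ASBun21.finite_hom k hMc hMc
  haveI := hMc.1
  let F := und A φ M
  let ψ' : End F := (SheafOfModules.restrictScalars φ).map ψ
  let s : Module.End (Aη A) (Mη A M) := genMap ψ
  have hTs : ∀ x, T φ M ψ' x = s x := fun x => by
    obtain ⟨U, hU, m, rfl⟩ := exists_gM M x
    exact (T_gM φ M ψ' hU m).trans (genMap_gM ψ hU m).symm
  let Φ : k[X] →+* Module.End (Aη A) (Mη A M) := eval₂RingHom' (ρ k φ hcen M) s fun c => by
    refine LinearMap.ext fun x => ?_
    show γ k φ c • s x = s (γ k φ c • x)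
    rw [map_smul]
  have key : ∀ (p : k[X]) (x : Mη A M), T φ M (aeval ψ' p : End F) x = Φ p x := by
    intro p
    induction p using Polynomial.induction_on with
    | C a =>
      intro x
      rw [aeval_C, Algebra.algebraMap_eq_smul_one]
      refine (T_smul k φ M a (𝟙 F) x).trans ?_
      rw [T_id]
      simp only [Φ, eval₂RingHom', RingHom.coe_mk, MonoidHom.coe_mk, OneHom.coe_mk, eval₂_C]
      rfl
    | add p q hp hq =>
      intro x
      rw [map_add, map_add, LinearMap.add_apply, ← hp, ← hq]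
      exact T_add φ M _ _ x
    | monomial n a h =>
      intro x
      have e : (C a * Polynomial.X ^ (n + 1) : k[X]) = C a * Polynomial.X ^ n * Polynomial.X := by ring
      rw [e, map_mul, map_mul (Φ) _ Polynomial.X, aeval_X]
      refine (T_comp φ M ψ' _ x).trans ?_
      rw [h, hTs]
      simp only [Φ, eval₂RingHom', RingHom.coe_mk, MonoidHom.coe_mk, OneHom.coe_mk, eval₂_X]
      rfl
  haveI : Module.Finite k (End F) := ASBun21.finite_hom k hMc hMc
  obtain ⟨p, hp0, hp⟩ := (IsIntegral.of_finite k ψ')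
  have hΦ : p ∈ RingHom.ker Φ := by
    refine LinearMap.ext fun x => ?_
    rw [← key p x, show aeval ψ' p = 0 from hp, LinearMap.zero_apply]
    obtain ⟨U, hU, m, rfl⟩ := exists_gM M x
    refine (T_gM φ M 0 hU m).trans ?_
    exact map_zero (TopCat.Presheaf.germ (C := Ab.{u}) (X := X.carrier) M.val.presheaf U (genericPoint X) hU).hom
  haveI : IsDomain (Module.End (Aη A) (Mη A M)) := inferInstance
  have hprime := RingHom.ker_isPrime Φ
  rw [(IsAlgClosed.splits p).eq_prod_roots_of_monic hp0] at hΦ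
  obtain ⟨q, hq, hqk⟩ := (Ideal.IsPrime.multiset_prod_mem_iff_exists_mem hprime _).1 hΦ
  obtain ⟨c, -, rfl⟩ := Multiset.mem_map.1 hq
  refine ⟨c, fun U m => ?_⟩
  have hs : s = ρ k φ hcen M c := by
    have : Φ (Polynomial.X - C c) = 0 := hqk
    simp only [map_sub, Φ, eval₂RingHom', RingHom.coe_mk, MonoidHom.coe_mk, OneHom.coe_mk, eval₂_X, eval₂_C,
      sub_eq_zero] at this
    exact this
  rcases subsingleton_or_mem U with hU | hU
  · refine gM_injective φ M hMt hU ?_
    rw [gM_smul, ← γ_eq k φ hU]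
    exact (genMap_gM ψ hU m).symm.trans (LinearMap.congr_fun hs _)
  · exact subsingleton_of_eq_bot M hU _ _

end GrothLib.OrdSurf9
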