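import Groth.Agent.Lib.Ref1.Extend
import Groth.Agent.Lib.Ref1.Generic
import Groth.Prelude.Def_TorSh
import Mathlib.RingTheory.SimpleModule.Basic
import Mathlib.Algebra.Category.ModuleCat.Stalk
import Mathlib.Algebra.Category.ModuleCat.Sheaf.ChangeOfRings

/-!
# Modules over a sheaf of algebras with simple generic stalk
-/

set_option autoImplicit false
set_option backward.isDefEq.respectTransparency false
set_option linter.style.haveILetI false

universe u

open CategoryTheory CategoryTheory.Limits AlgebraicGeometry TopologicalSpace Opposite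

noncomputable section

namespace GrothLib.OrdSurf9

variable {X : Scheme.{u}} [IsIntegral X]
  (A : Sheaf (Opens.grothendieckTopology X) RingCat.{u}) (φ : X.ringCatSheaf ⟶ A)

/-- The generic stalk of the sheaf of rings. -/
abbrev Aη : RingCat.{u} := TopCat.Presheaf.stalk (C := RingCat.{u}) (X := X.carrier) A.obj (genericPoint X)

/-- The generic stalk of a module. -/
abbrev Mη (M : SheafOfModules.{u} A) : Ab.{u} :=
  TopCat.Presheaf.stalk (C := Ab.{u}) (X := X.carrier) M.val.presheaf (genericPoint X)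

/-- The underlying `O_X`-module. -/
abbrev und (M : SheafOfModules.{u} A) : X.Modules := (SheafOfModules.restrictScalars φ).obj M

variable {A}

/-- The germ at the generic point. -/
def gA {U : X.Opens} (hU : genericPoint X ∈ U) (a : A.obj.obj (op U)) : Aη A :=
  TopCat.Presheaf.germ (C := RingCat.{u}) (X := X.carrier) A.obj U (genericPoint X) hU a

/-- The germ at the generic point. -/
def gM (M : SheafOfModules.{u} A) {U : X.Opens} (hU : genericPoint X ∈ U) (m : M.val.obj (op U)) : Mη A M :=
  TopCat.Presheaf.germ (C := Ab.{u}) (X := X.carrier) M.val.presheaf U (genericPoint X) hU m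

theorem gA_mul {U : X.Opens} (hU : genericPoint X ∈ U) (a b : A.obj.obj (op U)) :
    gA hU (a * b) = gA hU a * gA hU b :=
  map_mul (TopCat.Presheaf.germ (C := RingCat.{u}) (X := X.carrier) A.obj U (genericPoint X) hU).hom a b

theorem gA_res {U V : X.Opens} (h : V ≤ U) (hV : genericPoint X ∈ V) (a : A.obj.obj (op U)) :
    gA hV (A.obj.map (homOfLE h).op a) = gA (h hV) a :=
  TopCat.Presheaf.germ_res_apply (C := RingCat.{u}) (X := X.carrier) A.obj (homOfLE h) _ hV a

theorem gM_res (M : SheafOfModules.{u} A) {U V : X.Opens} (h : V ≤ U) (hV : genericPoint X ∈ V)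
    (m : M.val.obj (op U)) : gM M hV (M.val.presheaf.map (homOfLE h).op m) = gM M (h hV) m :=
  TopCat.Presheaf.germ_res_apply (C := Ab.{u}) (X := X.carrier) M.val.presheaf (homOfLE h) _ hV m

theorem gM_smul (M : SheafOfModules.{u} A) {U : X.Opens} (hU : genericPoint X ∈ U) (a : A.obj.obj (op U))
    (m : M.val.obj (op U)) : gM M hU (a • m) = gA hU a • gM M hU m :=
  PresheafOfModules.germ_ringCat_smul (X := X.toTopCat) (R := A.obj) M.val (genericPoint X) U hU a m

theorem exists_gA (x : Aη A) : ∃ (U : X.Opens) (hU : genericPoint X ∈ U) (a : A.obj.obj (op U)), gA hU a = x := by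
  obtain ⟨U, hU, a, h⟩ := TopCat.Presheaf.exists_germ_eq (C := RingCat.{u}) (X := X.carrier) A.obj x
  exact ⟨U, hU, a, h⟩

theorem exists_gM (M : SheafOfModules.{u} A) (x : Mη A M) :
    ∃ (U : X.Opens) (hU : genericPoint X ∈ U) (m : M.val.obj (op U)), gM M hU m = x := by
  obtain ⟨U, hU, m, h⟩ := TopCat.Presheaf.exists_germ_eq (C := Ab.{u}) (X := X.carrier) M.val.presheaf x
  exact ⟨U, hU, m, h⟩

theorem gM_injective (M : SheafOfModules.{u} A) [(und A φ M).IsQuasicoherent]
    (ht : TorSh.IsTorsionFree (X := X) (und A φ M)) {U : X.Opens} (hU : genericPoint X ∈ U)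
    {m n : M.val.obj (op U)} (h : gM M hU m = gM M hU n) : m = n := by
  refine Ref1.section_ext_generic (F := und A φ M) (fun y _ => ?_) fun y hy => ?_
  · haveI := ht y
    exact Ref1.sp_injective (und A φ M) y
  · rw [Ref1.sp_germ, Ref1.sp_germ]
    exact h

theorem subsingleton_or_mem (U : X.Opens) : genericPoint X ∈ U ∨ U = ⊥ := by
  by_cases h : ∃ y, y ∈ U
  · obtain ⟨y, hy⟩ := h
    exact Or.inl ((Ref1.hη y).mem_open U.2 hy)
  · exact Or.inr (eq_bot_iff.2 fun y hy => (h ⟨y, hy⟩).elim)

theorem subsingleton_of_eq_bot (M : SheafOfModules.{u} A) {U : X.Opens} (hU : U = ⊥) (m n : M.val.obj (op U)) :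
    m = n :=
  TopCat.Presheaf.section_ext (C := Ab.{u}) (X := X.carrier) ⟨M.val.presheaf, M.isSheaf⟩ U m n
    fun y hy => (show y ∈ (⊥ : X.Opens) from hU ▸ hy).elim

variable {M N : SheafOfModules.{u} A}

/-- The linear map of generic stalks. -/
def genMap (ψ : M ⟶ N) : Mη A M →ₗ[Aη A] Mη A N where
  toFun := (TopCat.Presheaf.stalkFunctor (X := X.toTopCat) Ab.{u} (genericPoint X)).map
    ((PresheafOfModules.toPresheaf A.obj).map ψ.val)
  map_add' := map_add _
  map_smul' r x := by
    obtain ⟨U, hU, a, rfl⟩ := exists_gA r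
    obtain ⟨V, hV, m, rfl⟩ := exists_gM M x
    rw [RingHom.id_apply]
    have hW : genericPoint X ∈ U ⊓ V := ⟨hU, hV⟩
    rw [← gA_res (inf_le_left : U ⊓ V ≤ U) hW a, ← gM_res M (inf_le_right : U ⊓ V ≤ V) hW m, ← gM_smul]
    refine (TopCat.Presheaf.stalkFunctor_map_germ_apply (X := X.toTopCat) _ _ hW _ _).trans ?_
    refine Eq.trans ?_ (congrArg (_ • ·) (TopCat.Presheaf.stalkFunctor_map_germ_apply (X := X.toTopCat) _ _ hW _ _).symm)
    refine Eq.trans ?_ (gM_smul N hW _ _)
    exact congrArg (gM N hW) (map_smul (ψ.val.app (op (U ⊓ V))).hom _ _)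

theorem genMap_gM (ψ : M ⟶ N) {U : X.Opens} (hU : genericPoint X ∈ U) (m : M.val.obj (op U)) :
    genMap ψ (gM M hU m) = gM N hU (ψ.val.app (op U) m) :=
  TopCat.Presheaf.stalkFunctor_map_germ_apply (X := X.toTopCat) U (genericPoint X) hU
    ((PresheafOfModules.toPresheaf A.obj).map ψ.val) m

include φ in
theorem eq_zero_of_genMap_eq_zero [(und A φ N).IsQuasicoherent]
    (hN : TorSh.IsTorsionFree (X := X) (und A φ N)) {ψ : M ⟶ N} (h : genMap ψ = 0) : ψ = 0 := by
  refine SheafOfModules.hom_ext (PresheafOfModules.hom_ext fun U => ModuleCat.hom_ext (LinearMap.ext fun m => ?_))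
  obtain ⟨U⟩ := U
  rcases subsingleton_or_mem U with hU | hU
  · refine gM_injective φ N hN hU ?_
    rw [← genMap_gM, h, LinearMap.zero_apply]
    exact (map_zero (TopCat.Presheaf.germ (C := Ab.{u}) (X := X.carrier) N.val.presheaf U (genericPoint X) hU).hom).symm
  · exact subsingleton_of_eq_bot N hU _ _

include φ in
theorem injective_app [(und A φ M).IsQuasicoherent] [(und A φ N).IsQuasicoherent]
    (hM : TorSh.IsTorsionFree (X := X) (und A φ M)) (hN : TorSh.IsTorsionFree (X := X) (und A φ N))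
    [IsSimpleModule (Aη A) (Mη A M)] {ψ : M ⟶ N} (hψ : ψ ≠ 0) (U : X.Opens) :
    Function.Injective (ψ.val.app (op U)) := by
  intro m n h
  rcases subsingleton_or_mem U with hU | hU
  · refine gM_injective φ M hM hU ?_
    rcases LinearMap.injective_or_eq_zero (genMap ψ) with hi | h0
    · apply hi
      rw [genMap_gM, genMap_gM, h]
    · exact absurd (eq_zero_of_genMap_eq_zero φ hN h0) hψ
  · exact subsingleton_of_eq_bot M hU _ _

include φ in
theorem mono_of_ne_zero [(und A φ M).IsQuasicoherent] [(und A φ N).IsQuasicoherent]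
    (hM : TorSh.IsTorsionFree (X := X) (und A φ M)) (hN : TorSh.IsTorsionFree (X := X) (und A φ N))
    [IsSimpleModule (Aη A) (Mη A M)] {ψ : M ⟶ N} (hψ : ψ ≠ 0) : Mono ψ := ⟨fun {P} a b h => by
  refine SheafOfModules.hom_ext (PresheafOfModules.hom_ext fun U => ModuleCat.hom_ext (LinearMap.ext fun p => ?_))
  exact injective_app φ hM hN hψ U.unop (congrArg (fun t : P ⟶ N => t.val.app U p) h)⟩

end GrothLib.OrdSurf9
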